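import Cfsg.Agent.O73.Param
import Cfsg.Agent.AutPOmega.Odd
import Cfsg.Agent.AutPOmega.Balance
import Cfsg.Agent.S0292

/-!
# The orthogonal group in seven dimensions over three elements and its triangular 3-subgroup
-/

set_option autoImplicit false

namespace Cfsg.Agent.O73

open Matrix

/-- The form. -/
abbrev q7 : (Ix → ZMod 3) → ZMod 3 := Cfsg.quadFormOdd 3 (ZMod 3)

/-- The isometry group. -/
abbrev G0 : Type := ↥(Cfsg.isometryGroup (ZMod 3) q7)

/-- The commutator subgroup. -/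
abbrev Om : Subgroup G0 := Cfsg.Omega (ZMod 3) q7

/-- The matrix of an isometry. -/
def mg (g : G0) : Matrix Ix Ix (ZMod 3) := ((g : GL Ix (ZMod 3)) : Matrix Ix Ix (ZMod 3))

theorem mg_injective : Function.Injective mg := fun _ _ h => Subtype.ext (Units.ext h)

theorem mg_mul (g h : G0) : mg (g * h) = mg g * mg h := rfl

theorem mg_one : mg 1 = 1 := rfl

theorem q7_mulVec (g : G0) (v : Ix → ZMod 3) : q7 (mg g *ᵥ v) = q7 v := g.2 v v

theorem eq_zero_of_shift {v : Ix → ZMod 3} (h : ∀ w, q7 (v + w) = q7 w) : v = 0 := by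
  have h0 := h 0
  funext j
  rcases j with u | i | i
  · have h1 := h (Pi.single (Sum.inl u) 1)
    simp [q7, Cfsg.quadFormOdd, Fin.sum_univ_three] at h0 h1 ⊢
    have h2 : (2 : ZMod 3) * v (Sum.inl ()) = 0 := by linear_combination h1 - h0
    exact (mul_eq_zero.1 h2).resolve_left (by decide)
  · have h1 := h (Pi.single (Sum.inr (Sum.inr i)) 1)
    simp [q7, Cfsg.quadFormOdd, Fin.sum_univ_three] at h0 h1 ⊢
    fin_cases i <;> simp at h1 ⊢ <;> linear_combination h1 - h0
  · have h1 := h (Pi.single (Sum.inr (Sum.inl i)) 1)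
    simp [q7, Cfsg.quadFormOdd, Fin.sum_univ_three] at h0 h1 ⊢
    fin_cases i <;> simp at h1 ⊢ <;> linear_combination h1 - h0

/-- A matrix preserving the form as an element of the group. -/
noncomputable def ofMat (M : Matrix Ix Ix (ZMod 3)) (h : ∀ v, q7 (M *ᵥ v) = q7 v) : G0 :=
  ⟨(Matrix.mulVec_injective_iff_isUnit.1 fun a b hab => sub_eq_zero.1 (eq_zero_of_shift fun w => by
      rw [← h, Matrix.mulVec_add, Matrix.mulVec_sub, show M *ᵥ a = M *ᵥ b from hab, sub_self, zero_add, h]) :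
      IsUnit M).unit, fun u _ => h u⟩

theorem mg_ofMat (M : Matrix Ix Ix (ZMod 3)) (h : ∀ v, q7 (M *ᵥ v) = q7 v) : mg (ofMat M h) = M :=
  IsUnit.unit_spec _

/-- The triangular isometry with given parameters. -/
noncomputable def el (x : Fin 9 → ZMod 3) : G0 := ofMat (tM x) (tM_isometry x)

theorem mg_el (x : Fin 9 → ZMod 3) : mg (el x) = tM x := mg_ofMat _ _

theorem el_injective : Function.Injective el := fun x y h => by
  rw [← readM_tM x, ← readM_tM y, ← mg_el, ← mg_el, h]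

theorem el_mul (x y : Fin 9 → ZMod 3) : el x * el y = el (readM (tM x * tM y)) :=
  mg_injective (by rw [mg_mul, mg_el, mg_el, mg_el, ← tM_mul])

/-- The triangular subgroup. -/
noncomputable def U : Subgroup G0 where
  carrier := Set.range el
  one_mem' := ⟨0, mg_injective (by rw [mg_el, tM_zero, mg_one])⟩
  mul_mem' := by
    rintro _ _ ⟨x, rfl⟩ ⟨y, rfl⟩
    exact ⟨_, (el_mul x y).symm⟩
  inv_mem' := by
    rintro _ ⟨x, rfl⟩
    have hpow : ∀ n : ℕ, ∃ y, el y = el x ^ n := fun n => by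
      induction n with
      | zero => exact ⟨0, mg_injective (by rw [mg_el, tM_zero, pow_zero, mg_one])⟩
      | succ n ih =>
        obtain ⟨y, hy⟩ := ih
        exact ⟨_, by rw [pow_succ, ← hy, el_mul]⟩
    obtain ⟨y, hy⟩ := hpow (orderOf (el x) - 1)
    refine ⟨y, ?_⟩
    rw [hy]
    refine eq_inv_of_mul_eq_one_left ?_
    rw [← pow_succ, Nat.sub_add_cancel (orderOf_pos (el x)), pow_orderOf_eq_one]

theorem card_U : Nat.card U = 3 ^ 9 := by
  show Nat.card ↥(Set.range el) = _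
  rw [Nat.card_range_of_injective el_injective, Nat.card_fun, Nat.card_zmod, Nat.card_fin]

theorem hodd3 : Odd (Fintype.card (ZMod 3)) := by rw [ZMod.card]; decide

theorem mem_Om_of_odd {g : G0} (h : Odd (orderOf g)) : g ∈ Om := by
  obtain ⟨k, hk⟩ := h
  have hs : g * g ∈ Om := AutPOmega.sq_mem_omega (AutPOmega.ctx_odd hodd3 (le_refl 3)) g
  have : g = (g * g) ^ (k + 1) := by
    rw [← pow_two, ← pow_mul, show 2 * (k + 1) = (2 * k + 1) + 1 by ring, pow_succ, ← hk, pow_orderOf_eq_one,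
      one_mul]
  rw [this]
  exact pow_mem hs _

theorem U_le : U ≤ Om := fun g hg => mem_Om_of_odd (by
  have h1 : orderOf g ∣ 3 ^ 9 := card_U ▸ Subgroup.orderOf_dvd_natCard U hg
  exact Odd.of_dvd_nat (by decide) h1)

theorem center_Om : Subgroup.center ↥Om = ⊥ := by
  have h2 : (2 : ZMod 3) ≠ 0 := by decide
  have hc := AutPOmega.ctx_odd hodd3 (le_refl 3)
  have hno : ¬ ∃ g : G0, g ∈ Om ∧ ((g : GL Ix (ZMod 3)) : Matrix Ix Ix (ZMod 3)) = -1 := by
    rintro ⟨g, hg, hg1⟩
    have hdet : Matrix.GeneralLinearGroup.det (g : GL Ix (ZMod 3)) = 1 :=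
      Abelianization.commutator_subset_ker
        (Matrix.GeneralLinearGroup.det.comp (Cfsg.isometryGroup (ZMod 3) q7).subtype) hg
    have h3 := congrArg (fun u : (ZMod 3)ˣ => (u : ZMod 3)) hdet
    simp only [Matrix.GeneralLinearGroup.val_det_apply, hg1, Units.val_one, Matrix.det_neg, Matrix.det_one,
      mul_one] at h3
    revert h3
    decide
  exact (Subgroup.card_eq_one).1
    ((Classical.Quad.card_center_omega hc.nondeg (by simp)).2 (Or.inl hno))

theorem card_Om : Nat.card ↥Om = 3 ^ 9 * 232960 := by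
  have h := S0292.result (F := ZMod 3) (q := 3) (ZMod.card 3) (by decide) 3 (le_refl 3)
  have e : Nat.card ↥Om = Nat.card (Cfsg.POmega (ZMod 3) q7) := by
    rw [Subgroup.card_eq_card_quotient_mul_card_subgroup (Subgroup.center ↥Om), center_Om,
      Subgroup.card_bot, mul_one]
    exact (Nat.card_congr (QuotientGroup.quotientMulEquivOfEq center_Om.symm).toEquiv)
  rw [Finset.prod_range_succ, Finset.prod_range_succ, Finset.prod_range_succ, Finset.prod_range_zero] at h
  norm_num at h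
  change 2 * Nat.card (Cfsg.POmega (ZMod 3) q7) = _ at h
  rw [e]
  omega

/-- Two isometries generate conjugate subgroups under Ω. -/
def Rel (x y : G0) : Prop := ∃ h ∈ Om, h * x = y * h ∨ h * x = y⁻¹ * h

theorem Rel.refl (x : G0) : Rel x x := ⟨1, one_mem _, Or.inl (by simp)⟩

theorem Rel.symm {x y : G0} (h : Rel x y) : Rel y x := by
  obtain ⟨g, hg, e | e⟩ := h
  · exact ⟨g⁻¹, inv_mem hg, Or.inl (by rw [eq_mul_inv_iff_mul_eq, mul_assoc, ← e, ← mul_assoc, inv_mul_cancel, one_mul])⟩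
  · refine ⟨g⁻¹, inv_mem hg, Or.inr ?_⟩
    have hy : y = g * x⁻¹ * g⁻¹ := by
      rw [← _root_.inv_inj, _root_.mul_inv_rev, _root_.mul_inv_rev, inv_inv, inv_inv, ← mul_assoc, e, mul_inv_cancel_right]
    rw [hy]
    group

theorem Rel.trans {x y z : G0} (h : Rel x y) (h' : Rel y z) : Rel x z := by
  obtain ⟨g, hg, e⟩ := h
  obtain ⟨g', hg', e'⟩ := h'
  refine ⟨g' * g, mul_mem hg' hg, ?_⟩
  have hi : ∀ {a b : G0}, g' * a = b * g' → g' * a⁻¹ = b⁻¹ * g' := fun {a b} hab => by
    rw [eq_inv_mul_iff_mul_eq, ← mul_assoc, ← hab, mul_inv_cancel_right]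
  rcases e with e | e <;> rcases e' with e' | e'
  · exact Or.inl (by rw [mul_assoc, e, ← mul_assoc, e', mul_assoc])
  · exact Or.inr (by rw [mul_assoc, e, ← mul_assoc, e', mul_assoc])
  · exact Or.inr (by rw [mul_assoc, e, ← mul_assoc, hi e', mul_assoc])
  · exact Or.inl (by rw [mul_assoc, e, ← mul_assoc, hi e', inv_inv, mul_assoc])

/-- Every element of order three of Ω is related to a triangular one. -/
theorem exists_rel_el {x : G0} (hx : x ∈ Om) (hord : orderOf x = 3) :
    ∃ c, orderOf (el c) = 3 ∧ Rel x (el c) := by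
  haveI : Fact (Nat.Prime 3) := ⟨by norm_num⟩
  have hcard : Nat.card (U.subgroupOf Om) = 3 ^ (Nat.card ↥Om).factorization 3 := by
    rw [Nat.card_congr (Subgroup.subgroupOfEquivOfLe U_le).toEquiv, card_U, card_Om,
      Nat.factorization_mul (by norm_num) (by norm_num), Finsupp.add_apply, Nat.factorization_pow_self (by norm_num),
      Nat.factorization_eq_zero_of_not_dvd (show ¬ 3 ∣ 232960 by norm_num)]
  let P : Sylow 3 ↥Om := Sylow.ofCard _ hcard
  have hp : IsPGroup 3 (Subgroup.zpowers (⟨x, hx⟩ : ↥Om)) :=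
    IsPGroup.of_card (n := 1) (by rw [Nat.card_zpowers, Subgroup.orderOf_mk, hord, pow_one])
  obtain ⟨Q, hQ⟩ := hp.exists_le_sylow
  obtain ⟨g, hg⟩ := MulAction.exists_smul_eq ↥Om Q P
  have hmem : g * ⟨x, hx⟩ * g⁻¹ ∈ (P : Subgroup ↥Om) := by
    rw [← hg, Sylow.coe_subgroup_smul]
    exact ⟨⟨x, hx⟩, hQ (Subgroup.mem_zpowers _), by simp [MulAut.conj_apply]⟩
  obtain ⟨c, hc⟩ : ∃ c, el c = (g : G0) * x * (g : G0)⁻¹ := hmem
  refine ⟨c, ?_, g, g.2, Or.inl (by rw [hc, inv_mul_cancel_right])⟩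
  rw [hc]
  exact (MulEquiv.orderOf_eq (MulAut.conj (g : G0)) x).trans hord

end Cfsg.Agent.O73
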