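import Cfsg.Agent.O73.Data

/-!
# The certificate checks
-/

set_option autoImplicit false

namespace Cfsg.Agent.O73

/-- The swap of the two isotropic halves. -/
def swapP : List ℕ := mk7 fun i j => if j = (if i = 0 then 0 else if i < 4 then i + 3 else i - 3) then 1 else 0

/-- The entry at a position. -/
def entry (i : ℕ) : ℕ := ((entries.getD (i / 243) []).getD (i % 243) 0)

/-- The code of an entry. -/
def eCode (e : ℕ) : ℕ := e % 32768

/-- The kind of an entry. -/
def eKind (e : ℕ) : ℕ := e / 32768 % 64

/-- The parent of an entry. -/
def ePar (e : ℕ) : ℕ := e / 2097152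

/-- The position of a code. -/
def posOf (k : ℕ) : ℕ := posTab.getD (k / 243) 0 >>> (13 * (k % 243)) % 8192

/-- A conjugator. -/
def genP (i : ℕ) : List ℕ :=
  let c := genCodes.getD i (0, false)
  if c.2 then mulP swapP (mulP (tP c.1) swapP) else tP c.1

/-- The check of an entry. -/
def edgeOK (i : ℕ) : Bool :=
  let e := entry i
  let k := eKind e
  if k = 37 then reps.contains (eCode e)
  else
    decide (ePar e < i) &&
      (if k = 36 then mulP (tP (eCode (entry (ePar e)))) (tP (eCode (entry (ePar e)))) == tP (eCode e)
      else decide (k < 36) &&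
        mulP (genP k) (tP (eCode e)) == mulP (tP (eCode (entry (ePar e)))) (genP k))

/-- The check of a code: an element of order three occurs in the table. -/
def codeOK (k : ℕ) : Bool :=
  let P := tP k
  k == 0 || !(mulP P (mulP P P) == oneP) || (decide (posOf k < 5102) && eCode (entry (posOf k)) == k)

/-- All codes of a block pass. -/
def codesOK (c : ℕ) : Bool := (List.range 243).all fun j => codeOK (243 * c + j)

/-- All entries of a block pass. -/
def edgesOK (c : ℕ) : Bool := (List.range 243).all fun j => decide (5102 ≤ 243 * c + j) || edgeOK (243 * c + j)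

end Cfsg.Agent.O73
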