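import Cfsg.Agent.O73.CheckDefs

/-!
# Kernel evaluation of the checks
-/

set_option autoImplicit false

namespace Cfsg.Agent.O73

theorem codesOK_27 : codesOK 27 = true := by decide +kernel

theorem codesOK_28 : codesOK 28 = true := by decide +kernel

theorem codesOK_29 : codesOK 29 = true := by decide +kernel

theorem codesOK_30 : codesOK 30 = true := by decide +kernel

theorem codesOK_31 : codesOK 31 = true := by decide +kernel

theorem codesOK_32 : codesOK 32 = true := by decide +kernel

theorem codesOK_33 : codesOK 33 = true := by decide +kernel

theorem codesOK_34 : codesOK 34 = true := by decide +kernel

theorem codesOK_35 : codesOK 35 = true := by decide +kernel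

theorem codesOK_36 : codesOK 36 = true := by decide +kernel

theorem codesOK_37 : codesOK 37 = true := by decide +kernel

theorem codesOK_38 : codesOK 38 = true := by decide +kernel

theorem codesOK_39 : codesOK 39 = true := by decide +kernel

theorem codesOK_40 : codesOK 40 = true := by decide +kernel

theorem codesOK_41 : codesOK 41 = true := by decide +kernel

theorem codesOK_42 : codesOK 42 = true := by decide +kernel

theorem codesOK_43 : codesOK 43 = true := by decide +kernel

theorem codesOK_44 : codesOK 44 = true := by decide +kernel

theorem codesOK_45 : codesOK 45 = true := by decide +kernel

theorem codesOK_46 : codesOK 46 = true := by decide +kernel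

theorem codesOK_47 : codesOK 47 = true := by decide +kernel

theorem codesOK_48 : codesOK 48 = true := by decide +kernel

theorem codesOK_49 : codesOK 49 = true := by decide +kernel

theorem codesOK_50 : codesOK 50 = true := by decide +kernel

theorem codesOK_51 : codesOK 51 = true := by decide +kernel

theorem codesOK_52 : codesOK 52 = true := by decide +kernel

theorem codesOK_53 : codesOK 53 = true := by decide +kernel

end Cfsg.Agent.O73
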