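import Cfsg.Agent.O73.CheckDefs

/-!
# Kernel evaluation of the checks
-/

set_option autoImplicit false

namespace Cfsg.Agent.O73

theorem codesOK_54 : codesOK 54 = true := by decide +kernel

theorem codesOK_55 : codesOK 55 = true := by decide +kernel

theorem codesOK_56 : codesOK 56 = true := by decide +kernel

theorem codesOK_57 : codesOK 57 = true := by decide +kernel

theorem codesOK_58 : codesOK 58 = true := by decide +kernel

theorem codesOK_59 : codesOK 59 = true := by decide +kernel

theorem codesOK_60 : codesOK 60 = true := by decide +kernel

theorem codesOK_61 : codesOK 61 = true := by decide +kernel

theorem codesOK_62 : codesOK 62 = true := by decide +kernel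

theorem codesOK_63 : codesOK 63 = true := by decide +kernel

theorem codesOK_64 : codesOK 64 = true := by decide +kernel

theorem codesOK_65 : codesOK 65 = true := by decide +kernel

theorem codesOK_66 : codesOK 66 = true := by decide +kernel

theorem codesOK_67 : codesOK 67 = true := by decide +kernel

theorem codesOK_68 : codesOK 68 = true := by decide +kernel

theorem codesOK_69 : codesOK 69 = true := by decide +kernel

theorem codesOK_70 : codesOK 70 = true := by decide +kernel

theorem codesOK_71 : codesOK 71 = true := by decide +kernel

theorem codesOK_72 : codesOK 72 = true := by decide +kernel

theorem codesOK_73 : codesOK 73 = true := by decide +kernel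

theorem codesOK_74 : codesOK 74 = true := by decide +kernel

theorem codesOK_75 : codesOK 75 = true := by decide +kernel

theorem codesOK_76 : codesOK 76 = true := by decide +kernel

theorem codesOK_77 : codesOK 77 = true := by decide +kernel

theorem codesOK_78 : codesOK 78 = true := by decide +kernel

theorem codesOK_79 : codesOK 79 = true := by decide +kernel

theorem codesOK_80 : codesOK 80 = true := by decide +kernel

end Cfsg.Agent.O73
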