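import Cfsg.Agent.O73.CheckDefs

/-!
# Kernel evaluation of the checks
-/

set_option autoImplicit false

namespace Cfsg.Agent.O73

theorem edgesOK_0 : edgesOK 0 = true := by decide +kernel

theorem edgesOK_1 : edgesOK 1 = true := by decide +kernel

theorem edgesOK_2 : edgesOK 2 = true := by decide +kernel

theorem edgesOK_3 : edgesOK 3 = true := by decide +kernel

theorem edgesOK_4 : edgesOK 4 = true := by decide +kernel

theorem edgesOK_5 : edgesOK 5 = true := by decide +kernel

theorem edgesOK_6 : edgesOK 6 = true := by decide +kernel

theorem edgesOK_7 : edgesOK 7 = true := by decide +kernel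

theorem edgesOK_8 : edgesOK 8 = true := by decide +kernel

theorem edgesOK_9 : edgesOK 9 = true := by decide +kernel

theorem edgesOK_10 : edgesOK 10 = true := by decide +kernel

theorem edgesOK_11 : edgesOK 11 = true := by decide +kernel

theorem edgesOK_12 : edgesOK 12 = true := by decide +kernel

theorem edgesOK_13 : edgesOK 13 = true := by decide +kernel

theorem edgesOK_14 : edgesOK 14 = true := by decide +kernel

theorem edgesOK_15 : edgesOK 15 = true := by decide +kernel

theorem edgesOK_16 : edgesOK 16 = true := by decide +kernel

theorem edgesOK_17 : edgesOK 17 = true := by decide +kernel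

theorem edgesOK_18 : edgesOK 18 = true := by decide +kernel

theorem edgesOK_19 : edgesOK 19 = true := by decide +kernel

theorem edgesOK_20 : edgesOK 20 = true := by decide +kernel

end Cfsg.Agent.O73
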