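import Cfsg.Agent.O73.Group
import Cfsg.Agent.Classical.LinearBasic
import Cfsg.Agent.S2614

/-!
# The stabiliser of a totally singular three-space inside Ω₇(3)

An element of Ω fixing the span of the first halves of the hyperbolic pairs has determinant one on it
and fixes the anisotropic vector modulo that space.
-/

set_option autoImplicit false

namespace Cfsg.Agent.O73

open Matrix

/-- The anisotropic index. -/
abbrev i0 : Ix := Sum.inl ()

/-- The indices of the first halves. -/
abbrev ix (i : Fin 3) : Ix := Sum.inr (Sum.inl i)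

/-- The indices of the second halves. -/
abbrev iy (i : Fin 3) : Ix := Sum.inr (Sum.inr i)

/-- The block diagonal matrix of A and B. -/
def lvMat (A B : Matrix (Fin 3) (Fin 3) (ZMod 3)) : Matrix Ix Ix (ZMod 3) :=
  Matrix.fromBlocks 1 0 0 (Matrix.fromBlocks A 0 0 B)

theorem lvMat_mul (A B A' B' : Matrix (Fin 3) (Fin 3) (ZMod 3)) :
    lvMat A B * lvMat A' B' = lvMat (A * A') (B * B') := by
  simp [lvMat, Matrix.fromBlocks_multiply]

theorem lvMat_isometry {A B : Matrix (Fin 3) (Fin 3) (ZMod 3)} (h : Aᵀ * B = 1) (v : Ix → ZMod 3) :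
    q7 (lvMat A B *ᵥ v) = q7 v := by
  have e : ∀ x y : Fin 3 → ZMod 3, (A *ᵥ x) ⬝ᵥ (B *ᵥ y) = x ⬝ᵥ y := fun x y => by
    rw [Matrix.dotProduct_mulVec, ← Matrix.vecMul_transpose, Matrix.vecMul_vecMul, h, Matrix.vecMul_one]
  have h0 : (lvMat A B *ᵥ v) (Sum.inl ()) = v (Sum.inl ()) := by
    simp [lvMat, Matrix.fromBlocks_mulVec]
  have h1 : ∀ i, (lvMat A B *ᵥ v) (ix i) = (A *ᵥ (v ∘ ix)) i := fun i => by
    simp [lvMat, Matrix.fromBlocks_mulVec, Function.comp_def, Matrix.mulVec, dotProduct, Fintype.sum_sum_type]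
  have h2 : ∀ i, (lvMat A B *ᵥ v) (iy i) = (B *ᵥ (v ∘ iy)) i := fun i => by
    simp [lvMat, Matrix.fromBlocks_mulVec, Function.comp_def, Matrix.mulVec, dotProduct, Fintype.sum_sum_type]
  show _ + ∑ i, _ = _ + ∑ i, _
  rw [h0]
  refine congrArg _ ?_
  have := e (v ∘ ix) (v ∘ iy)
  simp only [dotProduct, ← h1, ← h2, Function.comp_apply] at this
  exact this

/-- The block diagonal isometry. -/
noncomputable def lv (A B : Matrix (Fin 3) (Fin 3) (ZMod 3)) (h : Aᵀ * B = 1) : G0 :=
  ofMat (lvMat A B) (lvMat_isometry h)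

theorem sl_pair (S : SpecialLinearGroup (Fin 3) (ZMod 3)) :
    (S : Matrix (Fin 3) (Fin 3) (ZMod 3))ᵀ * ((S⁻¹ : SpecialLinearGroup (Fin 3) (ZMod 3)) : Matrix _ _ (ZMod 3))ᵀ = 1 := by
  rw [← Matrix.transpose_mul, ← Matrix.SpecialLinearGroup.coe_mul, inv_mul_cancel,
    Matrix.SpecialLinearGroup.coe_one, Matrix.transpose_one]

/-- SL₃ inside the isometry group. -/
noncomputable def lvHom : SpecialLinearGroup (Fin 3) (ZMod 3) →* G0 :=
  MonoidHom.mk' (fun S => lv _ _ (sl_pair S)) fun S T => mg_injective (by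
    rw [mg_mul]
    simp only [lv, mg_ofMat, lvMat_mul, ← Matrix.transpose_mul, ← Matrix.SpecialLinearGroup.coe_mul,
      _root_.mul_inv_rev])

theorem lvHom_mem (S : SpecialLinearGroup (Fin 3) (ZMod 3)) : lvHom S ∈ Om := by
  have h : (commutator (SpecialLinearGroup (Fin 3) (ZMod 3))).map lvHom ≤ Om := by
    show _ ≤ commutator G0
    rw [commutator_def, commutator_def, Subgroup.map_commutator]
    exact Subgroup.commutator_mono le_top le_top
  exact h ⟨S, by rw [Classical.commutator_sl_eq_top (Or.inl (by simp))]; trivial, rfl⟩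

theorem lv_mem {A B : Matrix (Fin 3) (Fin 3) (ZMod 3)} (h : Aᵀ * B = 1) (hd : A.det = 1) : lv A B h ∈ Om := by
  have hB : B = ((⟨A, hd⟩⁻¹ : SpecialLinearGroup (Fin 3) (ZMod 3)) : Matrix (Fin 3) (Fin 3) (ZMod 3))ᵀ :=
    (Matrix.inv_eq_right_inv h).symm.trans (Matrix.inv_eq_right_inv (sl_pair ⟨A, hd⟩))
  have : lv A B h = lvHom ⟨A, hd⟩ := mg_injective (by
    show mg (ofMat _ _) = mg (ofMat _ _)
    rw [mg_ofMat, mg_ofMat, hB])
  rw [this]
  exact lvHom_mem _

/-- The involution negating the three hyperbolic pairs. -/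
noncomputable def negPairs : G0 := lv (-1) (-1) (by simp)

/-- The reflection in the anisotropic vector. -/
noncomputable def refl0 : G0 :=
  ofMat (Matrix.diagonal fun i => if i = i0 then -1 else 1) fun v => by
    simp [q7, Cfsg.quadFormOdd, Matrix.mulVec_diagonal]

theorem negPairs_not_mem : negPairs ∉ Om := by
  intro h
  have h1 := (S2614.result (F := ZMod 3) (q := 3) (ZMod.card 3) (by decide) (m := 3) 3 (by norm_num) (le_refl 3)).1
    ⟨negPairs, h, by
      show mg negPairs = _
      rw [negPairs, lv, mg_ofMat]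
      ext i j
      rcases i with i | i | i <;> rcases j with j | j | j <;>
        simp [lvMat, Matrix.diagonal_apply, Matrix.neg_apply, Matrix.one_apply, apply_ite Neg.neg] <;>
        split_ifs <;> simp_all⟩
  norm_num at h1

theorem mg_refl0 : mg refl0 = Matrix.diagonal fun i => if i = i0 then (-1 : ZMod 3) else 1 := mg_ofMat _ _

theorem det_of_mem {g : G0} (hg : g ∈ Om) : (mg g).det = 1 := by
  have h := Abelianization.commutator_subset_ker
    (Matrix.GeneralLinearGroup.det.comp (Cfsg.isometryGroup (ZMod 3) q7).subtype) hg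
  have h3 := congrArg (fun u : (ZMod 3)ˣ => (u : ZMod 3)) (MonoidHom.mem_ker.1 h)
  simp only [MonoidHom.coe_comp, Function.comp_apply, Subgroup.coe_subtype,
    Matrix.GeneralLinearGroup.val_det_apply, Units.val_one] at h3
  exact h3

theorem det_refl0 : (mg refl0).det = -1 := by
  rw [mg_refl0, Matrix.det_diagonal, Finset.prod_eq_single i0 (fun b _ hb => if_neg hb) (by simp), if_pos rfl]

theorem det_negPairs : (mg negPairs).det = 1 := by
  rw [negPairs, lv, mg_ofMat, lvMat, Matrix.det_fromBlocks_zero₂₁, Matrix.det_fromBlocks_zero₂₁, Matrix.det_neg,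
    Matrix.det_one]
  decide

/-- The polar form on images. -/
theorem polar_col (g : G0) (i j : Ix) :
    q7 (fun k => mg g k i + mg g k j) - q7 (fun k => mg g k i) - q7 (fun k => mg g k j) =
      q7 (Pi.single i 1 + Pi.single j 1) - q7 (Pi.single i 1) - q7 (Pi.single j 1) := by
  have e : ∀ i, (fun k => mg g k i) = mg g *ᵥ Pi.single i 1 := fun i => by ext k; simp [Matrix.mulVec_single_one]
  have e2 : (fun k => mg g k i + mg g k j) = mg g *ᵥ (Pi.single i 1 + Pi.single j 1) := by
    rw [Matrix.mulVec_add, ← e, ← e]; rfl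
  rw [e2, e i, e j, q7_mulVec, q7_mulVec, q7_mulVec]

theorem col_q (g : G0) (i : Ix) : q7 (fun k => mg g k i) = q7 (Pi.single i 1) := by
  rw [show (fun k => mg g k i) = mg g *ᵥ Pi.single i 1 by ext k; simp [Matrix.mulVec_single_one], q7_mulVec]

section block

variable (h : G0) (hρ : ∀ j, mg h i0 (ix j) = 0) (hD : ∀ i j, mg h (iy i) (ix j) = 0)
  (hd : ∀ i, mg h (iy i) i0 = 0)

include hρ hD in
/-- The two diagonal blocks are inverse transposes. -/
theorem block_pair : (Matrix.of fun i j => mg h (ix i) (ix j))ᵀ *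
    (Matrix.of fun i j => mg h (iy i) (iy j)) = 1 := by
  ext a b
  have := polar_col h (ix a) (iy b)
  simp [q7, Cfsg.quadFormOdd, Fin.sum_univ_three, hρ, hD] at this
  rw [Matrix.mul_apply, Fin.sum_univ_three, Matrix.one_apply]
  simp only [Matrix.transpose_apply, Matrix.of_apply]
  fin_cases a <;> fin_cases b <;> simp at this ⊢ <;> linear_combination this

include hd in
theorem t_sq : mg h i0 i0 * mg h i0 i0 = 1 := by
  have := col_q h i0
  simp [q7, Cfsg.quadFormOdd, Fin.sum_univ_three, hd] at this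
  rcases this with e | e <;> simp [e]

/-- A block unitriangular isometry is triangular. -/
theorem mem_U_of_unipotent (g : G0) (h00 : mg g i0 i0 = 1) (h0x : ∀ j, mg g i0 (ix j) = 0)
    (hy0 : ∀ i, mg g (iy i) i0 = 0) (hyx : ∀ i j, mg g (iy i) (ix j) = 0)
    (hxx : ∀ i j, mg g (ix i) (ix j) = if i = j then 1 else 0)
    (hyy : ∀ i j, mg g (iy i) (iy j) = if i = j then 1 else 0) : g ∈ U := by
  refine ⟨readM (mg g), mg_injective ?_⟩
  rw [mg_el]
  have hc : ∀ i, mg g (ix i) i0 = mg g i0 (iy i) := by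
    intro i
    have := polar_col g i0 (iy i)
    simp [q7, Cfsg.quadFormOdd, Fin.sum_univ_three, h00, hy0, hyy] at this
    fin_cases i <;> simp at this ⊢ <;> linear_combination this - (mg g i0 _) * three_eq_zero
  have hdiag : ∀ i, mg g (ix i) (iy i) = 2 * mg g i0 (iy i) * mg g i0 (iy i) := by
    intro i
    have := col_q g (iy i)
    simp [q7, Cfsg.quadFormOdd, Fin.sum_univ_three, hyy] at this
    fin_cases i <;> simp at this ⊢ <;> linear_combination this - (mg g i0 _ ^ 2) * three_eq_zero
  have hoff : ∀ i j, i ≠ j → mg g (ix i) (iy j) + mg g (ix j) (iy i) + 2 * mg g i0 (iy i) * mg g i0 (iy j) = 0 := by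
    intro i j hij
    have := polar_col g (iy i) (iy j)
    simp [q7, Cfsg.quadFormOdd, Fin.sum_univ_three, hyy] at this
    fin_cases i <;> fin_cases j <;> simp at hij this ⊢ <;> linear_combination this
  have o01 := hoff 0 1 (by decide)
  have o02 := hoff 0 2 (by decide)
  have o12 := hoff 1 2 (by decide)
  ext i j
  rcases i with i | i | i <;> rcases j with j | j | j <;>
    (try fin_cases i) <;> (try fin_cases j) <;>
    simp [readM, tM, tEnt, pos, h00, h0x, hy0, hyx, hxx, hyy, hc, hdiag] <;>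
    simp [i0, ix, iy] at o01 o02 o12 ⊢ <;>
    first
      | ring1
      | linear_combination o01
      | linear_combination o02
      | linear_combination o12
      | linear_combination -o01
      | linear_combination -o02
      | linear_combination -o12
      | linear_combination -o12 + (2 * mg g i0 (iy 1) * mg g i0 (iy 2) + mg g (ix 1) (iy 2)) * three_eq_zero
      | (ring_nf <;> reduce_mod_char <;> ring_nf <;> reduce_mod_char; done)
      | linear_combination (norm := (ring_nf <;> reduce_mod_char <;> ring_nf <;> reduce_mod_char; done)) o01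
      | linear_combination (norm := (ring_nf <;> reduce_mod_char <;> ring_nf <;> reduce_mod_char; done)) o02
      | linear_combination (norm := (ring_nf <;> reduce_mod_char <;> ring_nf <;> reduce_mod_char; done)) o12
      | linear_combination (norm := (ring_nf <;> reduce_mod_char <;> ring_nf <;> reduce_mod_char; done)) -o01
      | linear_combination (norm := (ring_nf <;> reduce_mod_char <;> ring_nf <;> reduce_mod_char; done)) -o02
      | linear_combination (norm := (ring_nf <;> reduce_mod_char <;> ring_nf <;> reduce_mod_char; done)) -o12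

end block

/-- Block triangular members of Ω. -/
theorem block_of_mem (h : G0) (hh : h ∈ Om) (hρ : ∀ j, mg h i0 (ix j) = 0)
    (hD : ∀ i j, mg h (iy i) (ix j) = 0) (hd : ∀ i, mg h (iy i) i0 = 0) :
    mg h i0 i0 = 1 ∧ (Matrix.of fun i j => mg h (ix i) (ix j)).det = 1 := by
  obtain ⟨A, hA⟩ : ∃ A, A = Matrix.of fun i j => mg h (ix i) (ix j) := ⟨_, rfl⟩
  obtain ⟨E, hE⟩ : ∃ E, E = Matrix.of fun i j => mg h (iy i) (iy j) := ⟨_, rfl⟩
  have hp : Aᵀ * E = 1 := hA ▸ hE ▸ block_pair h hρ hD
  have hq : Eᵀ * A = 1 := by rw [← Matrix.transpose_transpose A, ← Matrix.transpose_mul, hp, Matrix.transpose_one]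
  rw [← hA]
  have hq' : (Eᵀ)ᵀ * Aᵀ = 1 := by rw [Matrix.transpose_transpose]; exact mul_eq_one_comm.1 hp
  obtain ⟨k, hk⟩ : ∃ k, k = lv Eᵀ Aᵀ hq' * h := ⟨_, rfl⟩
  have hk0 : ∀ j, mg k i0 j = mg h i0 j := fun j => by
    simp [hk, mg_mul, lv, mg_ofMat, lvMat, Matrix.mul_apply, Fintype.sum_sum_type]
  have hkx : ∀ i j, mg k (ix i) j = ∑ l, Eᵀ i l * mg h (ix l) j := fun i j => by
    simp [hk, mg_mul, lv, mg_ofMat, lvMat, Matrix.mul_apply, Fintype.sum_sum_type]
  have hky : ∀ i j, mg k (iy i) j = ∑ l, Aᵀ i l * mg h (iy l) j := fun i j => by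
    simp [hk, mg_mul, lv, mg_ofMat, lvMat, Matrix.mul_apply, Fintype.sum_sum_type]
  have kxx : ∀ i j, mg k (ix i) (ix j) = if i = j then 1 else 0 := fun i j => by
    rw [hkx, ← Matrix.one_apply, ← hq, Matrix.mul_apply]; simp [hA]
  have kyy : ∀ i j, mg k (iy i) (iy j) = if i = j then 1 else 0 := fun i j => by
    rw [hky, ← Matrix.one_apply, ← hp, Matrix.mul_apply]; simp [hE]
  have hEA : Eᵀ.det * A.det = 1 := by rw [← Matrix.det_mul, hq, Matrix.det_one]
  -- the factor in the upper left block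
  obtain ⟨z, hzU, hz⟩ : ∃ z, z ∈ Om ∧ ((mg h i0 i0 = 1 ∧ k = z) ∨ k = z * refl0) := by
    have ht := t_sq h hd
    have ht' : mg h i0 i0 = 1 ∨ mg h i0 i0 = -1 := mul_self_eq_one_iff.1 ht
    rcases ht' with ht1 | ht1
    · exact ⟨k, U_le (mem_U_of_unipotent k (by rw [hk0, ht1]) (fun j => by rw [hk0, hρ]) (fun i => by simp [hky, hd])
        (fun i j => by simp [hky, hD]) kxx kyy), Or.inl ⟨ht1, rfl⟩⟩
    · refine ⟨k * refl0, U_le ?_, Or.inr ?_⟩
      · have hc : ∀ a b, mg (k * refl0) a b = mg k a b * if b = i0 then -1 else 1 := fun a b => by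
          rw [mg_mul, mg_refl0, Matrix.mul_diagonal]
        exact mem_U_of_unipotent _ (by simp [hc, hk0, ht1]) (fun j => by simp [hc, hk0, hρ])
          (fun i => by simp [hc, hky, hd]) (fun i j => by simp [hc, hky, hD])
          (fun i j => by simp [hc, kxx]) (fun i j => by simp [hc, kyy])
      · refine mg_injective ?_
        rw [mg_mul, mg_mul, Matrix.mul_assoc]
        rw [mg_refl0, Matrix.diagonal_mul_diagonal]
        have e1 : (fun i : Ix => (if i = i0 then (-1 : ZMod 3) else 1) * if i = i0 then -1 else 1) = fun _ => 1 := by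
          funext i; split_ifs <;> simp
        rw [e1, Matrix.diagonal_one, mul_one]
  obtain ⟨L, hL, hLk⟩ : ∃ L, (L = 1 ∨ L = negPairs) ∧ L * lv Eᵀ Aᵀ hq' ∈ Om ∧ (L = 1 ↔ A.det = 1) := by
    have hd2 : A.det = 1 ∨ A.det = -1 := by
      have : A.det ≠ 0 := fun e => by simp [e] at hEA
      revert this
      generalize A.det = x
      revert x
      decide
    rcases hd2 with e | e
    · refine ⟨1, Or.inl rfl, ?_, by simp [e]⟩
      rw [one_mul]
      exact lv_mem _ (by rw [e, mul_one] at hEA; exact hEA)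
    · have hne : negPairs ≠ 1 := fun e' => negPairs_not_mem (e' ▸ one_mem _)
      refine ⟨negPairs, Or.inr rfl, ?_, iff_of_false hne (by rw [e]; decide)⟩
      have hm : (-Eᵀ)ᵀ * -Aᵀ = 1 := by simpa using hq'
      have : negPairs * lv Eᵀ Aᵀ hq' = lv (-Eᵀ) (-Aᵀ) hm := mg_injective (by
        simp [mg_mul, negPairs, lv, mg_ofMat, lvMat_mul])
      rw [this]
      refine lv_mem _ ?_
      rw [Matrix.det_neg, Fintype.card_fin]
      rw [e] at hEA
      linear_combination hEA
  obtain ⟨hLm, hLd⟩ := hLk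
  -- the remaining diagonal element lies in Ω
  have hrem : L * k ∈ Om := by rw [hk, ← mul_assoc]; exact mul_mem hLm hh
  rcases hz with ⟨ht, hz⟩ | hz
  · have hL' : L ∈ Om := by
      rw [hz] at hrem
      simpa using mul_mem hrem (inv_mem hzU)
    exact ⟨ht, hLd.1 (hL.resolve_right fun e => negPairs_not_mem (e ▸ hL'))⟩
  · exfalso
    have h1 := det_of_mem hrem
    have h2 : (mg L).det = 1 := by
      rcases hL with e | e <;> rw [e]
      · rw [mg_one, Matrix.det_one]
      · exact det_negPairs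
    rw [hz, mg_mul, mg_mul, Matrix.det_mul, Matrix.det_mul, h2, det_of_mem hzU, det_refl0, one_mul, one_mul] at h1
    exact absurd h1 (by decide)

end Cfsg.Agent.O73
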