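import Cfsg.Agent.O73.CodesA
import Cfsg.Agent.O73.CodesB
import Cfsg.Agent.O73.CodesC
import Cfsg.Agent.O73.Edges
import Cfsg.Agent.O73.Parabolic

/-!
# Classes of subgroups of order three of Ω₇(3)
-/

set_option autoImplicit false
set_option synthInstance.maxSize 2000

namespace Cfsg.Agent.O73

open Matrix

/-- The permutation exchanging the halves of the pairs. -/
def swI : Ix → Ix
  | .inl u => .inl u
  | .inr (.inl i) => .inr (.inr i)
  | .inr (.inr i) => .inr (.inl i)

theorem toMat_swapP (i j : Ix) : toMat swapP i j = if j = swI i then 1 else 0 := by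
  have : ∀ i j : Ix, ((dg (swapP.getD (pos i) 0) (pos j) : ℕ) : ZMod 3) = if j = swI i then 1 else 0 := by
    decide +kernel
  exact this i j

theorem swap_mulVec (v : Ix → ZMod 3) (i : Ix) : (toMat swapP *ᵥ v) i = v (swI i) := by
  simp [Matrix.mulVec, dotProduct, toMat_swapP]

/-- The isometry exchanging the halves. -/
noncomputable def swapG : G0 := ofMat (toMat swapP) fun v => by
  simp [q7, Cfsg.quadFormOdd, swap_mulVec, swI, mul_comm]

theorem mg_swapG : mg swapG = toMat swapP := mg_ofMat _ _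

theorem isP_swapP : IsP swapP := ⟨_, rfl⟩

theorem swapG_sq : swapG * swapG = 1 := mg_injective (by
  rw [mg_mul, mg_swapG, ← isP_swapP.toMat_mul isP_swapP, show mulP swapP swapP = oneP by decide +kernel, toMat_oneP,
    mg_one])

theorem mg_el_parOf (k : ℕ) : mg (el (parOf k)) = toMat (tP k) := by rw [mg_el, toMat_tP]

theorem isP_genP (i : ℕ) : IsP (genP i) := by
  unfold genP
  dsimp only
  split
  · exact isP_swapP.mul ((isP_tP _).mul isP_swapP)
  · exact isP_tP _

theorem exists_gen (i : ℕ) : ∃ h ∈ Om, mg h = toMat (genP i) := by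
  unfold genP
  dsimp only
  split
  · refine ⟨swapG * (el (parOf (genCodes.getD i (0, false)).1) * swapG), ?_, ?_⟩
    · rw [← mul_assoc]
      have : swapG⁻¹ = swapG := inv_eq_of_mul_eq_one_right swapG_sq
      nth_rewrite 2 [← this]
      haveI : (commutator G0).Normal := inferInstance
      exact ‹(commutator G0).Normal›.conj_mem _ (U_le ⟨_, rfl⟩) _
    · rw [mg_mul, mg_mul, mg_swapG, mg_el_parOf, isP_swapP.toMat_mul ((isP_tP _).mul isP_swapP),
        (isP_tP _).toMat_mul isP_swapP]
  · exact ⟨_, U_le ⟨_, rfl⟩, mg_el_parOf _⟩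

theorem edgesOK_all {c : ℕ} (hc : c < 21) : edgesOK c = true := by
  interval_cases c
  exacts [edgesOK_0, edgesOK_1, edgesOK_2, edgesOK_3, edgesOK_4, edgesOK_5, edgesOK_6, edgesOK_7, edgesOK_8,
    edgesOK_9, edgesOK_10, edgesOK_11, edgesOK_12, edgesOK_13, edgesOK_14, edgesOK_15, edgesOK_16, edgesOK_17,
    edgesOK_18, edgesOK_19, edgesOK_20]

theorem codesOK_all {c : ℕ} (hc : c < 81) : codesOK c = true := by
  interval_cases c
  exacts [codesOK_0, codesOK_1, codesOK_2, codesOK_3, codesOK_4, codesOK_5, codesOK_6, codesOK_7, codesOK_8,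
    codesOK_9, codesOK_10, codesOK_11, codesOK_12, codesOK_13, codesOK_14, codesOK_15, codesOK_16,
    codesOK_17, codesOK_18, codesOK_19, codesOK_20, codesOK_21, codesOK_22, codesOK_23, codesOK_24,
    codesOK_25, codesOK_26, codesOK_27, codesOK_28, codesOK_29, codesOK_30, codesOK_31, codesOK_32,
    codesOK_33, codesOK_34, codesOK_35, codesOK_36, codesOK_37, codesOK_38, codesOK_39, codesOK_40,
    codesOK_41, codesOK_42, codesOK_43, codesOK_44, codesOK_45, codesOK_46, codesOK_47, codesOK_48,
    codesOK_49, codesOK_50, codesOK_51, codesOK_52, codesOK_53, codesOK_54, codesOK_55, codesOK_56,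
    codesOK_57, codesOK_58, codesOK_59, codesOK_60, codesOK_61, codesOK_62, codesOK_63, codesOK_64,
    codesOK_65, codesOK_66, codesOK_67, codesOK_68, codesOK_69, codesOK_70, codesOK_71, codesOK_72,
    codesOK_73, codesOK_74, codesOK_75, codesOK_76, codesOK_77, codesOK_78, codesOK_79, codesOK_80]

theorem edgeOK_of_lt {i : ℕ} (hi : i < 5102) : edgeOK i = true := by
  have h := edgesOK_all (show i / 243 < 21 by omega)
  rw [edgesOK, List.all_eq_true] at h
  have h' := h (i % 243) (List.mem_range.2 (Nat.mod_lt _ (by norm_num)))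
  rw [Nat.div_add_mod, Bool.or_eq_true, decide_eq_true_eq] at h'
  exact h'.resolve_left (not_le.2 hi)

theorem codeOK_of_lt {k : ℕ} (hk : k < 19683) : codeOK k = true := by
  have h := codesOK_all (show k / 243 < 81 by omega)
  rw [codesOK, List.all_eq_true] at h
  have h' := h (k % 243) (List.mem_range.2 (Nat.mod_lt _ (by norm_num)))
  rwa [Nat.div_add_mod] at h'

theorem el_pow_three_iff (k : ℕ) : el (parOf k) ^ 3 = 1 ↔ mulP (tP k) (mulP (tP k) (tP k)) = oneP := by
  have hP := isP_tP k
  have e : mg (el (parOf k) ^ 3) = toMat (mulP (tP k) (mulP (tP k) (tP k))) := by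
    rw [pow_succ', pow_two, mg_mul, mg_mul, mg_el_parOf, hP.toMat_mul (hP.mul hP), hP.toMat_mul hP]
  constructor
  · intro h
    exact (hP.mul (hP.mul hP)).ext ⟨_, rfl⟩ (by rw [← e, h, mg_one, toMat_oneP])
  · intro h
    exact mg_injective (by rw [e, h, mg_one, toMat_oneP])

theorem reps_cube : ∀ r ∈ reps, el (parOf r) ^ 3 = 1 := by
  have : ∀ r ∈ reps, mulP (tP r) (mulP (tP r) (tP r)) = oneP := by decide +kernel
  exact fun r hr => (el_pow_three_iff r).2 (this r hr)

theorem entry_rel (i : ℕ) (hi : i < 5102) :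
    el (parOf (eCode (entry i))) ^ 3 = 1 ∧ ∃ r ∈ reps, Rel (el (parOf (eCode (entry i)))) (el (parOf r)) := by
  induction i using Nat.strong_induction_on with
  | _ i ih =>
    have h := edgeOK_of_lt hi
    simp only [edgeOK] at h
    split at h
    · have hr : eCode (entry i) ∈ reps := by simpa using h
      exact ⟨reps_cube _ hr, _, hr, Rel.refl _⟩
    · rw [Bool.and_eq_true, decide_eq_true_eq] at h
      obtain ⟨hlt, h⟩ := h
      obtain ⟨hp3, r, hr, hrel⟩ := ih _ hlt (by omega)
      split at h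
      · have e : el (parOf (eCode (entry (ePar (entry i))))) * el (parOf (eCode (entry (ePar (entry i))))) =
            el (parOf (eCode (entry i))) := mg_injective (by
          rw [mg_mul, mg_el_parOf, mg_el_parOf, ← (isP_tP _).toMat_mul (isP_tP _), beq_iff_eq.1 h])
        have e' : el (parOf (eCode (entry i))) = (el (parOf (eCode (entry (ePar (entry i))))))⁻¹ := by
          rw [← e]
          exact eq_inv_of_mul_eq_one_left (by rw [← pow_two, ← pow_succ]; exact hp3)
        refine ⟨by rw [e', inv_pow, hp3, inv_one], r, hr, Rel.trans ⟨1, one_mem _, Or.inr ?_⟩ hrel⟩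
        rw [e', one_mul, mul_one]
      · rw [Bool.and_eq_true, beq_iff_eq] at h
        obtain ⟨g, hg, hgm⟩ := exists_gen (eKind (entry i))
        have e : g * el (parOf (eCode (entry i))) = el (parOf (eCode (entry (ePar (entry i))))) * g :=
          mg_injective (by
            rw [mg_mul, mg_mul, mg_el_parOf, mg_el_parOf, hgm, ← (isP_genP _).toMat_mul (isP_tP _),
              ← (isP_tP _).toMat_mul (isP_genP _), h.2])
        refine ⟨?_, r, hr, Rel.trans ⟨g, hg, Or.inl e⟩ hrel⟩
        have : el (parOf (eCode (entry i))) = g⁻¹ * el (parOf (eCode (entry (ePar (entry i))))) * g := by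
          rw [mul_assoc, ← e, inv_mul_cancel_left]
        rw [this, show g⁻¹ * el (parOf (eCode (entry (ePar (entry i))))) * g =
          MulAut.conj g⁻¹ (el (parOf (eCode (entry (ePar (entry i)))))) by simp, ← map_pow, hp3, map_one]

theorem exists_code (c : Fin 9 → ZMod 3) : ∃ k < 19683, parOf k = c := by
  obtain ⟨k, hk⟩ : ∃ k : Fin (3 ^ 9), finFunctionFinEquiv.symm k = c :=
    ⟨finFunctionFinEquiv c, Equiv.symm_apply_apply _ _⟩
  refine ⟨k, lt_of_lt_of_eq k.2 (by norm_num), funext fun i => ?_⟩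
  rw [← hk]
  show ((k.1 / 3 ^ i.1 % 3 : ℕ) : ZMod 3) = _
  apply Fin.ext
  rw [finFunctionFinEquiv_symm_apply_val]
  exact (ZMod.val_natCast 3 _).trans (Nat.mod_mod _ _)

theorem exists_rep {c : Fin 9 → ZMod 3} (h1 : el c ≠ 1) (h3 : el c ^ 3 = 1) :
    ∃ r ∈ reps, Rel (el c) (el (parOf r)) := by
  obtain ⟨k, hk, rfl⟩ := exists_code c
  have h := codeOK_of_lt hk
  simp only [codeOK, Bool.or_eq_true, beq_iff_eq, Bool.not_eq_true', beq_eq_false_iff_ne, Bool.and_eq_true,
    decide_eq_true_eq] at h
  rcases h with (h | h) | ⟨hp, he⟩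
  · subst h
    exact absurd (mg_injective (by
      rw [mg_el, show parOf 0 = 0 from funext fun i => by simp [parOf, dig], tM_zero, mg_one])) h1
  · exact absurd ((el_pow_three_iff k).1 h3) h
  · have := (entry_rel _ hp).2
    rwa [he] at this

end Cfsg.Agent.O73
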