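import Cfsg.Agent.O73.CheckDefs

/-!
# Kernel evaluation of the checks
-/

set_option autoImplicit false

namespace Cfsg.Agent.O73

theorem codesOK_0 : codesOK 0 = true := by decide +kernel

theorem codesOK_1 : codesOK 1 = true := by decide +kernel

theorem codesOK_2 : codesOK 2 = true := by decide +kernel

theorem codesOK_3 : codesOK 3 = true := by decide +kernel

theorem codesOK_4 : codesOK 4 = true := by decide +kernel

theorem codesOK_5 : codesOK 5 = true := by decide +kernel

theorem codesOK_6 : codesOK 6 = true := by decide +kernel

theorem codesOK_7 : codesOK 7 = true := by decide +kernel

theorem codesOK_8 : codesOK 8 = true := by decide +kernel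

theorem codesOK_9 : codesOK 9 = true := by decide +kernel

theorem codesOK_10 : codesOK 10 = true := by decide +kernel

theorem codesOK_11 : codesOK 11 = true := by decide +kernel

theorem codesOK_12 : codesOK 12 = true := by decide +kernel

theorem codesOK_13 : codesOK 13 = true := by decide +kernel

theorem codesOK_14 : codesOK 14 = true := by decide +kernel

theorem codesOK_15 : codesOK 15 = true := by decide +kernel

theorem codesOK_16 : codesOK 16 = true := by decide +kernel

theorem codesOK_17 : codesOK 17 = true := by decide +kernel

theorem codesOK_18 : codesOK 18 = true := by decide +kernel

theorem codesOK_19 : codesOK 19 = true := by decide +kernel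

theorem codesOK_20 : codesOK 20 = true := by decide +kernel

theorem codesOK_21 : codesOK 21 = true := by decide +kernel

theorem codesOK_22 : codesOK 22 = true := by decide +kernel

theorem codesOK_23 : codesOK 23 = true := by decide +kernel

theorem codesOK_24 : codesOK 24 = true := by decide +kernel

theorem codesOK_25 : codesOK 25 = true := by decide +kernel

theorem codesOK_26 : codesOK 26 = true := by decide +kernel

end Cfsg.Agent.O73
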