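import Cfsg.Agent.O73.Parabolic

/-!
# Telling the classes apart

The number of fixed vectors of each value of the form separates five of the seven classes, and the two
remaining ones are separated inside the stabiliser of their common totally singular three-space.
-/

set_option autoImplicit false

namespace Cfsg.Agent.O73

open Matrix

/-- The fixed vectors of a given value of the form. -/
noncomputable def fixN (g : G0) (a : ZMod 3) : ℕ :=
  Nat.card {v : Ix → ZMod 3 // mg g *ᵥ v = v ∧ q7 v = a}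

theorem fixN_conj {h x y : G0} (e : h * x = y * h) (a : ZMod 3) : fixN x a = fixN y a := by
  have hinj : Function.Injective (mg h *ᵥ ·) := fun v w hvw => by
    have := congrArg (mg h⁻¹ *ᵥ ·) hvw
    simpa [Matrix.mulVec_mulVec, ← mg_mul, mg_one] using this
  refine Nat.card_congr ((Equiv.ofBijective _ (Finite.injective_iff_bijective.1 hinj)).subtypeEquiv fun v => ?_)
  show _ ↔ mg y *ᵥ (mg h *ᵥ v) = mg h *ᵥ v ∧ q7 (mg h *ᵥ v) = a
  rw [q7_mulVec, Matrix.mulVec_mulVec, ← mg_mul, ← e, mg_mul, ← Matrix.mulVec_mulVec]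
  exact and_congr_left' hinj.eq_iff.symm

theorem fixN_inv (g : G0) (a : ZMod 3) : fixN g⁻¹ a = fixN g a := by
  have key : ∀ (g : G0) v, mg g *ᵥ v = v → mg g⁻¹ *ᵥ v = v := fun g v hv => by
    nth_rewrite 1 [← hv]
    rw [Matrix.mulVec_mulVec, ← mg_mul, inv_mul_cancel, mg_one, Matrix.one_mulVec]
  exact Nat.card_congr (Equiv.subtypeEquivRight fun v =>
    and_congr_left' ⟨fun hv => by simpa using key g⁻¹ v hv, key g v⟩)

theorem Rel.fixN_eq {x y : G0} (h : Rel x y) (a : ZMod 3) : fixN x a = fixN y a := by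
  obtain ⟨g, -, e | e⟩ := h
  · exact fixN_conj e a
  · exact (fixN_conj e a).trans (fixN_inv y a)

/-- A digit of a vector code. -/
def vd (j t : ℕ) : ℕ := j / 3 ^ t % 3

/-- The test of a row. -/
def rowFix (P : List ℕ) (j i : ℕ) : Bool :=
  (dg (P.getD i 0) 0 * vd j 0 + dg (P.getD i 0) 1 * vd j 1 + dg (P.getD i 0) 2 * vd j 2 +
    dg (P.getD i 0) 3 * vd j 3 + dg (P.getD i 0) 4 * vd j 4 + dg (P.getD i 0) 5 * vd j 5 +
    dg (P.getD i 0) 6 * vd j 6) % 3 == vd j i % 3

/-- The test of a vector code. -/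
def fixB (P : List ℕ) (a j : ℕ) : Bool :=
  ((vd j 0 * vd j 0 + (vd j 1 * vd j 4 + vd j 2 * vd j 5 + vd j 3 * vd j 6)) % 3 == a % 3) &&
    (List.range 7).all (rowFix P j)

/-- The packed count. -/
def cntFix (P : List ℕ) (a : ℕ) : ℕ := (List.range 2187).countP (fixB P a)

/-- The indices in their order. -/
noncomputable def posE : Ix ≃ Fin 7 :=
  Equiv.ofBijective (fun i => ⟨pos i, pos_lt i⟩) (by decide +kernel)

theorem fixN_eq_cnt (k a : ℕ) : fixN (el (parOf k)) (a : ZMod 3) = cntFix (tP k) a := by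
  let e : (Ix → ZMod 3) ≃ Fin (3 ^ 7) := (Equiv.arrowCongr posE (Equiv.refl _)).trans finFunctionFinEquiv
  have hd : ∀ v i, v i = ((vd (e v).1 (pos i) : ℕ) : ZMod 3) := fun v i => by
    have h1 : finFunctionFinEquiv.symm (e v) (posE i) = v i := by
      show finFunctionFinEquiv.symm (finFunctionFinEquiv fun t => v (posE.symm t)) (posE i) = v i
      refine (congrFun (Equiv.symm_apply_apply _ _) (posE i)).trans ?_
      exact congrArg v (posE.symm_apply_apply i)
    rw [← h1]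
    apply Fin.ext
    rw [finFunctionFinEquiv_symm_apply_val]
    exact ((ZMod.val_natCast 3 _).trans (Nat.mod_mod _ _)).symm
  have hrow : ∀ v i, (toMat (tP k) *ᵥ v) i = v i ↔ rowFix (tP k) (e v).1 (pos i) = true := fun v i => by
    rw [rowFix, beq_iff_eq]
    rw [show ∀ x y : ℕ, (x % 3 = y % 3 ↔ (x : ZMod 3) = y) from fun x y => (ZMod.natCast_eq_natCast_iff' x y 3).symm]
    push_cast
    simp only [Matrix.mulVec, dotProduct, Fintype.sum_sum_type, Finset.univ_unique, Finset.sum_singleton,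
      Fin.sum_univ_three, hd v, toMat, pos, Fin.val_zero, Fin.val_one, Fin.val_two]
    ring_nf
  have hq : ∀ v, q7 v = (a : ZMod 3) ↔
      ((vd (e v).1 0 * vd (e v).1 0 + (vd (e v).1 1 * vd (e v).1 4 + vd (e v).1 2 * vd (e v).1 5 +
        vd (e v).1 3 * vd (e v).1 6)) % 3 == a % 3) = true := fun v => by
    rw [beq_iff_eq, ← ZMod.natCast_eq_natCast_iff']
    push_cast
    simp only [q7, Cfsg.quadFormOdd, Fin.sum_univ_three, hd v, pos, Fin.val_zero, Fin.val_one, Fin.val_two,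
      Finset.univ_unique]
    ring_nf
  have hall : ∀ v, mg (el (parOf k)) *ᵥ v = v ↔ (List.range 7).all (rowFix (tP k) (e v).1) = true := fun v => by
    rw [mg_el, ← toMat_tP, List.all_eq_true, funext_iff]
    refine ⟨fun h i hi => ?_, fun h i => (hrow v i).2 (h _ (List.mem_range.2 (pos_lt i)))⟩
    have := (hrow v (posE.symm ⟨i, List.mem_range.1 hi⟩)).1 (h _)
    have e2 : pos (posE.symm ⟨i, List.mem_range.1 hi⟩) = i :=
      congrArg Fin.val (posE.apply_symm_apply ⟨i, List.mem_range.1 hi⟩)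
    rwa [e2] at this
  rw [fixN, Nat.card_congr (e.subtypeEquiv (q := fun j => fixB (tP k) a j.1 = true) fun v =>
    (show (mg (el (parOf k)) *ᵥ v = v ∧ q7 v = (a : ZMod 3)) ↔ fixB (tP k) a (e v).1 = true by
    rw [fixB, Bool.and_eq_true, hall, hq, and_comm])), cntFix, Nat.card_eq_fintype_card, Fintype.card_subtype,
    List.countP_eq_length_filter, ← Finset.card_map Fin.valEmbedding]
  have : (Finset.univ.filter fun j : Fin (3 ^ 7) => fixB (tP k) a j.1 = true).map Fin.valEmbedding =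
      (Finset.range 2187).filter fun j => fixB (tP k) a j = true := by
    ext j
    simp only [Finset.mem_map, Finset.mem_filter, Finset.mem_univ, true_and, Fin.valEmbedding_apply,
      Finset.mem_range]
    exact ⟨fun ⟨x, hx, hj⟩ => hj ▸ ⟨lt_of_lt_of_eq x.2 (by norm_num), hx⟩,
      fun ⟨hj, hx⟩ => ⟨⟨j, lt_of_lt_of_eq hj (by norm_num)⟩, hx, rfl⟩⟩
  rw [this, ← List.toFinset_range, ← List.toFinset_filter, List.toFinset_card_of_nodup (List.nodup_range.filter _)]

/-- The representatives. -/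
def repC : Fin 7 → ℕ := ![756, 1485, 1, 27, 10, 747, 765]

theorem cnt_sep : ∀ i j : Fin 7, i = j ∨ (i = 0 ∧ j = 1) ∨ (i = 1 ∧ j = 0) ∨
    cntFix (tP (repC i)) 0 ≠ cntFix (tP (repC j)) 0 ∨ cntFix (tP (repC i)) 1 ≠ cntFix (tP (repC j)) 1 := by
  decide +kernel

theorem parOf_special : parOf 756 = ![0, 0, 0, 1, 0, 0, 1, 0, 0] ∧ parOf 1485 = ![0, 0, 0, 1, 0, 0, 2, 0, 0] ∧
    parOf 783 = ![0, 0, 0, 2, 0, 0, 1, 0, 0] := by
  decide +kernel

set_option synthInstance.maxSize 2000 in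
theorem not_conj_special {h : G0} (hh : h ∈ Om) (s n : ZMod 3) (hs : s = 1 ∧ n = 2 ∨ s = 2 ∧ n = 1) :
    mg h * tM ![0, 0, 0, 1, 0, 0, 1, 0, 0] ≠ tM ![0, 0, 0, s, 0, 0, n, 0, 0] * mg h := by
  intro T
  have hu : ∀ s n : ZMod 3, ∀ i j, tM ![0, 0, 0, s, 0, 0, n, 0, 0] i j =
      (([[1, 0, 0, 0, s, 0, 0], [s, 1, 0, 0, 2 * s * s, 0, 0], [0, 0, 1, 0, 0, 0, n], [0, 0, 0, 1, 0, 2 * n, 0],
        [0, 0, 0, 0, 1, 0, 0], [0, 0, 0, 0, 0, 1, 0], [0, 0, 0, 0, 0, 0, 1]] :
        List (List (ZMod 3))).getD (pos i) []).getD (pos j) 0 := fun s n i j => by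
    rcases i with i | i | i <;> rcases j with j | j | j <;> (try fin_cases i) <;> (try fin_cases j) <;>
      simp [tM, tEnt, pos]
  have E : ∀ i j, (mg h * tM ![0, 0, 0, 1, 0, 0, 1, 0, 0]) i j =
      (tM ![0, 0, 0, s, 0, 0, n, 0, 0] * mg h) i j := fun i j => by rw [T]
  simp only [Matrix.mul_apply, hu, Fintype.sum_sum_type, Finset.univ_unique, Finset.sum_singleton,
    Fin.sum_univ_three] at E
  have hsne : s ≠ 0 := by rcases hs with ⟨rfl, -⟩ | ⟨rfl, -⟩ <;> decide
  have hnne : n ≠ 0 := by rcases hs with ⟨-, rfl⟩ | ⟨-, rfl⟩ <;> decide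
  have h20 : (2 : ZMod 3) ≠ 0 := by decide
  have hD0 : ∀ j, mg h (iy 0) (ix j) = 0 := fun j => by
    have b := E i0 (ix j); fin_cases j <;> simp [pos, hsne] at b <;> exact b
  have hD2 : ∀ j, mg h (iy 2) (ix j) = 0 := fun j => by
    have b := E (ix 1) (ix j); fin_cases j <;> simp [pos, hnne] at b <;> exact b
  have hD1 : ∀ j, mg h (iy 1) (ix j) = 0 := fun j => by
    have b := E (ix 2) (ix j); fin_cases j <;> simp [pos, hnne, h20] at b <;> exact b
  have hρ : ∀ j, mg h i0 (ix j) = 0 := fun j => by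
    have b := E (ix 0) (ix j); have b0 := hD0 j
    fin_cases j <;> simp [pos, hsne] at b b0 <;> simp [b0, hsne] at b <;> exact b
  have hD : ∀ i j, mg h (iy i) (ix j) = 0 := fun i j => by
    fin_cases i
    exacts [hD0 j, hD1 j, hD2 j]
  have hd : ∀ i, mg h (iy i) i0 = 0 := fun i => by
    have b := E (iy i) (iy 0); have b0 := hD i 0
    fin_cases i <;> simp [i0, ix, iy, pos] at b b0 ⊢ <;> simp [b0] at b <;> linear_combination b
  obtain ⟨ht, hA⟩ := block_of_mem h hh hρ hD hd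
  have c1 := E (ix 0) i0
  have c2 := E (ix 1) i0
  have c3 := E (ix 2) i0
  have d2 := E i0 (iy 1)
  have d3 := E i0 (iy 2)
  have e1 := E (ix 1) (iy 1)
  have e2 := E (ix 2) (iy 1)
  have f1 := E (ix 1) (iy 2)
  have f2 := E (ix 2) (iy 2)
  have hAE := congrFun (congrFun (block_pair h hρ hD) 1) 1
  have q1 := hD 0 0; have q2 := hD 1 0; have q3 := hD 2 0
  have r1 := hd 0; have r2 := hd 1; have r3 := hd 2; have r5 := hρ 2
  simp [i0, ix, iy, pos, Matrix.mul_apply, Fin.sum_univ_three, hsne, hnne] at c1 c2 c3 d2 d3 e1 e2 f1 f2 hAE q1 q2 q3 r1 r2 r3 r5 ht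
  rw [Matrix.det_fin_three] at hA
  simp [i0, ix, iy] at hA
  have key : ∀ s n a b c d e f : ZMod 3, (s = 1 ∧ n = 2 ∨ s = 2 ∧ n = 1) → b * 2 = n * f → d * 2 = 2 * n * e →
      a * e + c * f = 1 → s * (a * d - b * c) = 1 → False := by decide +kernel
  have a11 : mg h (ix 0) (ix 0) = s := by linear_combination c1 + s * ht + 2 * s * s * r1
  have a10 : mg h (ix 1) (ix 0) = 0 := by linear_combination c2 + n * r3
  have a20 : mg h (ix 2) (ix 0) = 0 := by linear_combination c3 + 2 * n * r2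
  have e01 : mg h (iy 0) (iy 1) = 0 :=
    (mul_eq_zero.1 (show s * mg h (iy 0) (iy 1) = 0 by linear_combination 2 * r5 - d2)).resolve_left hsne
  refine key s n (mg h (ix 1) (ix 1)) (mg h (ix 1) (ix 2)) (mg h (ix 2) (ix 1)) (mg h (ix 2) (ix 2))
    (mg h (iy 1) (iy 1)) (mg h (iy 2) (iy 1)) hs ?_ ?_ ?_ ?_
  · linear_combination e1
  · linear_combination e2
  · linear_combination hAE - mg h (ix 0) (ix 1) * e01
  · simp only [ix] at a11 a10 a20
    rw [a11, a10, a20] at hA
    linear_combination hA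

theorem not_rel_special : ¬ Rel (el (parOf 756)) (el (parOf 1485)) := by
  obtain ⟨p1, p2, p3⟩ := parOf_special
  rintro ⟨h, hh, e | e⟩
  · have := congrArg mg e
    rw [mg_mul, mg_mul, mg_el, mg_el, p1, p2] at this
    exact not_conj_special hh 1 2 (Or.inl ⟨rfl, rfl⟩) this
  · have hi : (el (parOf 1485))⁻¹ = el (parOf 783) := inv_eq_of_mul_eq_one_right (mg_injective (by
      rw [mg_mul, mg_el, mg_el, ← toMat_tP, ← toMat_tP, ← (isP_tP _).toMat_mul (isP_tP _), mg_one,
        show mulP (tP 1485) (tP 783) = oneP by decide +kernel, toMat_oneP]))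
    rw [hi] at e
    have := congrArg mg e
    rw [mg_mul, mg_mul, mg_el, mg_el, p1, p3] at this
    exact not_conj_special hh 2 1 (Or.inr ⟨rfl, rfl⟩) this

theorem rep_injective (i j : Fin 7) (h : Rel (el (parOf (repC i))) (el (parOf (repC j)))) : i = j := by
  rcases cnt_sep i j with e | ⟨rfl, rfl⟩ | ⟨rfl, rfl⟩ | e | e
  · exact e
  · exact absurd h not_rel_special
  · exact absurd h.symm not_rel_special
  · exact absurd (by rw [← fixN_eq_cnt, ← fixN_eq_cnt]; exact h.fixN_eq _) e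
  · exact absurd (by rw [← fixN_eq_cnt, ← fixN_eq_cnt]; exact h.fixN_eq _) e

end Cfsg.Agent.O73
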