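import Mathlib
import Cfsg.Prelude.Def_Classical
import Cfsg.Agent.O73.Mat

/-!
# The upper triangular 3-group of the orthogonal group in seven dimensions over three elements
-/

set_option autoImplicit false

namespace Cfsg.Agent.O73

open Matrix

/-- The packed triangular isometry with the given parameters. -/
def tRows (p q r a b c u v w : ℕ) : List ℕ :=
  [ pack7 1 0 0 0 a b c,
    pack7 (a + p * b + q * c) 1 p q (2 * a * a + p * (2 * a * b + 2 * w) + q * (2 * a * c + v)) (2 * a * b + w + p * (2 * b * b) + q * (2 * b * c + 2 * u)) (2 * a * c + 2 * v + p * (2 * b * c + u) + q * (2 * c * c)),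
    pack7 (b + r * c) 0 1 r (2 * a * b + 2 * w + r * (2 * a * c + v)) (2 * b * b + r * (2 * b * c + 2 * u)) (2 * b * c + u + r * (2 * c * c)),
    pack7 c 0 0 1 (2 * a * c + v) (2 * b * c + 2 * u) (2 * c * c),
    pack7 0 0 0 0 1 0 0,
    pack7 0 0 0 0 (2 * p) 1 0,
    pack7 0 0 0 0 (p * r + 2 * q) (2 * r) 1 ]

/-- The triangular isometry with the given parameters. -/
def tEnt (p q r a b c u v w : ZMod 3) : List (List (ZMod 3)) :=
  [ [1, 0, 0, 0, a, b, c],
    [a + p * b + q * c, 1, p, q, 2 * a * a + p * (2 * a * b + 2 * w) + q * (2 * a * c + v), 2 * a * b + w + p * (2 * b * b) + q * (2 * b * c + 2 * u), 2 * a * c + 2 * v + p * (2 * b * c + u) + q * (2 * c * c)],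
    [b + r * c, 0, 1, r, 2 * a * b + 2 * w + r * (2 * a * c + v), 2 * b * b + r * (2 * b * c + 2 * u), 2 * b * c + u + r * (2 * c * c)],
    [c, 0, 0, 1, 2 * a * c + v, 2 * b * c + 2 * u, 2 * c * c],
    [0, 0, 0, 0, 1, 0, 0],
    [0, 0, 0, 0, 2 * p, 1, 0],
    [0, 0, 0, 0, p * r + 2 * q, 2 * r, 1] ]

/-- The triangular isometry as a matrix. -/
def tM (x : Fin 9 → ZMod 3) : Matrix Ix Ix (ZMod 3) := fun i j =>
  ((tEnt (x 0) (x 1) (x 2) (x 3) (x 4) (x 5) (x 6) (x 7) (x 8)).getD (pos i) []).getD (pos j) 0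

/-- The digits of a code. -/
def dig (k : ℕ) (i : ℕ) : ℕ := k / 3 ^ i % 3

/-- The packed isometry of a code. -/
def tP (k : ℕ) : List ℕ :=
  tRows (dig k 0) (dig k 1) (dig k 2) (dig k 3) (dig k 4) (dig k 5) (dig k 6) (dig k 7) (dig k 8)

/-- The parameters of a code. -/
def parOf (k : ℕ) : Fin 9 → ZMod 3 := fun i => (dig k i : ZMod 3)

theorem isP_tRows (p q r a b c u v w : ℕ) : IsP (tRows p q r a b c u v w) := by
  refine ⟨fun i j => (([ [1, 0, 0, 0, a, b, c],
    [a + p * b + q * c, 1, p, q, 2 * a * a + p * (2 * a * b + 2 * w) + q * (2 * a * c + v), 2 * a * b + w + p * (2 * b * b) + q * (2 * b * c + 2 * u), 2 * a * c + 2 * v + p * (2 * b * c + u) + q * (2 * c * c)],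
    [b + r * c, 0, 1, r, 2 * a * b + 2 * w + r * (2 * a * c + v), 2 * b * b + r * (2 * b * c + 2 * u), 2 * b * c + u + r * (2 * c * c)],
    [c, 0, 0, 1, 2 * a * c + v, 2 * b * c + 2 * u, 2 * c * c],
    [0, 0, 0, 0, 1, 0, 0],
    [0, 0, 0, 0, 2 * p, 1, 0],
    [0, 0, 0, 0, p * r + 2 * q, 2 * r, 1] ] : List (List ℕ)).getD i []).getD j 0, ?_⟩
  simp only [tRows, mk7, List.range_succ, List.range_zero, List.nil_append, List.cons_append, List.map_cons,
    List.map_nil, List.getD_cons_succ, List.getD_cons_zero]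

theorem isP_tP (k : ℕ) : IsP (tP k) := isP_tRows ..

theorem toMat_tRows (p q r a b c u v w : ℕ) :
    toMat (tRows p q r a b c u v w) = tM ![(p : ZMod 3), q, r, a, b, c, u, v, w] := by
  ext i j
  obtain ⟨f, hf⟩ : IsP (tRows p q r a b c u v w) := isP_tRows ..
  rw [show tRows p q r a b c u v w = mk7 (fun i j => (([ [1, 0, 0, 0, a, b, c],
    [a + p * b + q * c, 1, p, q, 2 * a * a + p * (2 * a * b + 2 * w) + q * (2 * a * c + v), 2 * a * b + w + p * (2 * b * b) + q * (2 * b * c + 2 * u), 2 * a * c + 2 * v + p * (2 * b * c + u) + q * (2 * c * c)],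
    [b + r * c, 0, 1, r, 2 * a * b + 2 * w + r * (2 * a * c + v), 2 * b * b + r * (2 * b * c + 2 * u), 2 * b * c + u + r * (2 * c * c)],
    [c, 0, 0, 1, 2 * a * c + v, 2 * b * c + 2 * u, 2 * c * c],
    [0, 0, 0, 0, 1, 0, 0],
    [0, 0, 0, 0, 2 * p, 1, 0],
    [0, 0, 0, 0, p * r + 2 * q, 2 * r, 1] ] : List (List ℕ)).getD i []).getD j 0) by
    simp only [tRows, mk7, List.range_succ, List.range_zero, List.nil_append, List.cons_append, List.map_cons,
      List.map_nil, List.getD_cons_succ, List.getD_cons_zero], toMat_mk7]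
  rcases i with i | i | i <;> rcases j with j | j | j <;>
    (try fin_cases i) <;> (try fin_cases j) <;> simp [tM, tEnt, pos]

theorem toMat_tP (k : ℕ) : toMat (tP k) = tM (parOf k) := by
  rw [tP, toMat_tRows]
  exact congrArg tM (funext fun i => by fin_cases i <;> rfl)

/-- The parameters read off a triangular isometry. -/
def readM (m : Matrix Ix Ix (ZMod 3)) : Fin 9 → ZMod 3 :=
  let X : Fin 3 → Ix := fun i => .inr (.inl i)
  let Y : Fin 3 → Ix := fun i => .inr (.inr i)
  let p := m (X 0) (X 1)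
  let q := m (X 0) (X 2)
  let r := m (X 1) (X 2)
  let a := m (.inl ()) (Y 0)
  let b := m (.inl ()) (Y 1)
  let c := m (.inl ()) (Y 2)
  let k1 := m (X 1) (Y 2) - r * m (X 2) (Y 2)
  let k0 := fun j => m (X 0) (Y j) - p * m (X 1) (Y j) + (p * r - q) * m (X 2) (Y j)
  ![p, q, r, a, b, c, k1 + b * c, -(k0 2 + a * c), k0 1 + a * b]

theorem three_eq_zero : (3 : ZMod 3) = 0 := by decide

theorem readM_tM (x : Fin 9 → ZMod 3) : readM (tM x) = x := by
  funext i
  fin_cases i <;> simp [readM, tM, tEnt, pos] <;> ring_nf <;> reduce_mod_char <;> ring_nf <;> reduce_mod_char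

theorem tM_mul (x y : Fin 9 → ZMod 3) : tM x * tM y = tM (readM (tM x * tM y)) := by
  ext i j
  rcases i with i | i | i <;> rcases j with j | j | j <;>
    (try fin_cases i) <;> (try fin_cases j) <;>
    simp [readM, tM, tEnt, pos, Matrix.mul_apply, Fintype.sum_sum_type, Fin.sum_univ_three] <;>
    ring_nf <;> reduce_mod_char <;> ring_nf <;> reduce_mod_char

theorem tM_zero : tM 0 = 1 := by
  ext i j
  rcases i with i | i | i <;> rcases j with j | j | j <;>
    (try fin_cases i) <;> (try fin_cases j) <;> simp [tM, tEnt, pos]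

theorem tM_isometry (x : Fin 9 → ZMod 3) (v : Ix → ZMod 3) :
    quadFormOdd 3 (ZMod 3) (tM x *ᵥ v) = quadFormOdd 3 (ZMod 3) v := by
  simp [quadFormOdd, tM, tEnt, pos, Matrix.mulVec, dotProduct, Fintype.sum_sum_type, Fin.sum_univ_three]
  ring_nf
  reduce_mod_char

end Cfsg.Agent.O73
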